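import Mathlib

/-! helper7: horizontal composition of base change maps for pushforward/pullback of modules -/

set_option linter.style.haveILetI false
set_option linter.unusedVariables false
set_option linter.unusedSectionVars false
set_option autoImplicit false
set_option backward.isDefEq.respectTransparency.types false
set_option synthInstance.maxHeartbeats 400000
set_option maxHeartbeats 800000

universe u

/-! helper7: horizontal composition of base change maps for pushforward and pullback of modules -/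

open CategoryTheory

namespace Groth.Agent.Helper7.BCHoriz

section General

variable {C D : Type*} [Category C] [Category D] {L₁ L₂ : C ⥤ D} {R₁ R₂ : D ⥤ C}
  (adj₁ : L₁ ⊣ R₁) (adj₂ : L₂ ⊣ R₂)

/-- transposing across conjugate isomorphisms -/
theorem homEquiv_comp_conjugate (α : L₁ ≅ L₂) (N : C) (P : D) (a : L₂.obj N ⟶ P) :
    adj₁.homEquiv N P (α.hom.app N ≫ a) ≫ (conjugateEquiv adj₁ adj₂ α.inv).app P =
      adj₂.homEquiv N P a := by
  rw [Adjunction.homEquiv_unit, Adjunction.homEquiv_unit, Category.assoc,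
    (conjugateEquiv adj₁ adj₂ α.inv).naturality, ← Category.assoc, unit_conjugateEquiv,
    Category.assoc, ← R₂.map_comp, ← Category.assoc, Iso.inv_hom_id_app, Category.id_comp]

/-- the unit of the second adjunction through the first one and the conjugate -/
theorem unit_eq_of_conjugate (α : L₁ ≅ L₂) (N : C) :
    adj₂.unit.app N = adj₁.unit.app N ≫ (conjugateEquiv adj₁ adj₂ α.inv).app (L₁.obj N) ≫
      R₂.map (α.hom.app N) := by
  rw [← Category.assoc, unit_conjugateEquiv, Category.assoc, ← R₂.map_comp, Iso.inv_hom_id_app,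
    R₂.map_id]
  exact (Category.comp_id _).symm

/-- transposing a composite across a composite adjunction -/
theorem comp_homEquiv_map_comp {E : Type*} [Category E] {Lψ : C ⥤ D} {Rψ : D ⥤ C} {Lφ : D ⥤ E}
    {Rφ : E ⥤ D} (adjψ : Lψ ⊣ Rψ) (adjφ : Lφ ⊣ Rφ) (N : C) (M : D) (P : E)
    (u : Lψ.obj N ⟶ M) (v : Lφ.obj M ⟶ P) :
    (adjψ.comp adjφ).homEquiv N P (Lφ.map u ≫ v) =
      adjψ.homEquiv N M u ≫ Rψ.map (adjφ.homEquiv M P v) := by
  rw [Adjunction.homEquiv_unit, Adjunction.homEquiv_unit, Adjunction.homEquiv_unit,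
    Adjunction.comp_unit_app]
  simp only [Functor.comp_map, Functor.map_comp, Category.assoc]
  congr 1
  rw [← Rψ.map_comp, ← Rψ.map_comp, ← Rψ.map_comp, ← Rψ.map_comp]
  congr 1
  have hn : u ≫ adjφ.unit.app M = adjφ.unit.app (Lψ.obj N) ≫ Rφ.map (Lφ.map u) :=
    adjφ.unit.naturality u
  rw [← Category.assoc u, hn, Category.assoc]

end General

open AlgebraicGeometry Scheme.Modules

/-- the base change map of a commutative square, in transposed form -/
noncomputable def bcT {X Y U V : Scheme.{u}} (f : X ⟶ Y) (ξ : X ⟶ U) (η : Y ⟶ V) (φ : U ⟶ V)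
    (h : f ≫ η = ξ ≫ φ) (M : Y.Modules) :
    (pushforward η).obj M ⟶ (pushforward φ).obj ((pushforward ξ).obj ((pullback f).obj M)) :=
  (pushforward η).map ((pullbackPushforwardAdjunction f).unit.app M) ≫
    (pushforwardComp f η).hom.app ((pullback f).obj M) ≫
    (pushforwardCongr h).hom.app ((pullback f).obj M) ≫
    (pushforwardComp ξ φ).inv.app ((pullback f).obj M)

theorem app_naturality {X : Scheme.{u}} {M N : X.Modules} (m : M ⟶ N) {V V' : X.Opens}
    (i : V ⟶ V') : M.presheaf.map i.op ≫ m.app V = m.app V' ≫ N.presheaf.map i.op :=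
  m.mapPresheaf.naturality i.op

theorem aux {X Y : Scheme.{u}} (f : X ⟶ Y) {A : Y.Modules} {Q P : X.Modules}
    (uf : A ⟶ (pushforward f).obj Q) (α : Q ⟶ P) {V₁ V₂ : Y.Opens} {O₃ : X.Opens}
    (e : V₂ = V₁) (h : O₃ = f ⁻¹ᵁ V₂) (h' : O₃ = f ⁻¹ᵁ V₁) :
    uf.app V₁ ≫ α.app (f ⁻¹ᵁ V₁) ≫ P.presheaf.map (eqToHom h').op =
      A.presheaf.map (eqToHom e).op ≫ uf.app V₂ ≫ Q.presheaf.map (eqToHom h).op ≫ α.app O₃ := by
  subst e
  subst h
  simp

theorem main {X Y Z U V W : Scheme.{u}} (f : X ⟶ Y) (g : Y ⟶ Z)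
    (ξ : X ⟶ U) (η : Y ⟶ V) (ζ : Z ⟶ W) (φ : U ⟶ V) (ψ : V ⟶ W)
    (h₁ : f ≫ η = ξ ≫ φ) (h₂ : g ≫ ζ = η ≫ ψ) (hw : (f ≫ g) ≫ ζ = ξ ≫ (φ ≫ ψ)) (L : Z.Modules) :
    (pullbackComp φ ψ).hom.app ((pushforward ζ).obj L) ≫
        (((pullbackPushforwardAdjunction (φ ≫ ψ)).homEquiv ((pushforward ζ).obj L)
            ((pushforward ξ).obj ((pullback (f ≫ g)).obj L))).symm
          (bcT (f ≫ g) ξ ζ (φ ≫ ψ) hw L)) =
      (pullback φ).map (((pullbackPushforwardAdjunction ψ).homEquiv ((pushforward ζ).obj L)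
            ((pushforward η).obj ((pullback g).obj L))).symm (bcT g η ζ ψ h₂ L)) ≫
        (((pullbackPushforwardAdjunction φ).homEquiv ((pushforward η).obj ((pullback g).obj L))
            ((pushforward ξ).obj ((pullback f).obj ((pullback g).obj L)))).symm
          (bcT f ξ η φ h₁ ((pullback g).obj L))) ≫
        (pushforward ξ).map ((pullbackComp f g).hom.app L) := by
  apply (((pullbackPushforwardAdjunction ψ).comp (pullbackPushforwardAdjunction φ)).homEquiv
    ((pushforward ζ).obj L) ((pushforward ξ).obj ((pullback (f ≫ g)).obj L))).injective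
  rw [← cancel_mono ((pushforwardComp φ ψ).hom.app ((pushforward ξ).obj ((pullback (f ≫ g)).obj L)))]
  have hL := homEquiv_comp_conjugate
    ((pullbackPushforwardAdjunction ψ).comp (pullbackPushforwardAdjunction φ))
    (pullbackPushforwardAdjunction (φ ≫ ψ)) (pullbackComp φ ψ) ((pushforward ζ).obj L)
    ((pushforward ξ).obj ((pullback (f ≫ g)).obj L))
    (((pullbackPushforwardAdjunction (φ ≫ ψ)).homEquiv ((pushforward ζ).obj L)
            ((pushforward ξ).obj ((pullback (f ≫ g)).obj L))).symm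
          (bcT (f ≫ g) ξ ζ (φ ≫ ψ) hw L))
  rw [conjugateEquiv_pullbackComp_inv, Equiv.apply_symm_apply] at hL
  rw [hL]
  rw [comp_homEquiv_map_comp, Adjunction.homEquiv_naturality_right, Equiv.apply_symm_apply,
    Equiv.apply_symm_apply]
  -- expand the unit of the composite
  have hu := unit_eq_of_conjugate
    ((pullbackPushforwardAdjunction g).comp (pullbackPushforwardAdjunction f))
    (pullbackPushforwardAdjunction (f ≫ g)) (pullbackComp f g) L
  rw [conjugateEquiv_pullbackComp_inv, Adjunction.comp_unit_app] at hu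
  unfold bcT
  rw [hu]
  clear hL hu
  apply Scheme.Modules.hom_ext
  intro T
  simp only [Hom.comp_app, pushforward_map_app, pushforwardComp_hom_app_app,
    pushforwardComp_inv_app_app, pushforwardCongr_hom_app_app,
    Category.assoc, Functor.comp_obj]
  repeat erw [Category.id_comp]
  erw [Category.comp_id]
  have e : η ⁻¹ᵁ ψ ⁻¹ᵁ T = g ⁻¹ᵁ ζ ⁻¹ᵁ T := by
    rw [← Scheme.Hom.comp_preimage, ← Scheme.Hom.comp_preimage, h₂]
  have h : ξ ⁻¹ᵁ φ ⁻¹ᵁ ψ ⁻¹ᵁ T = f ⁻¹ᵁ η ⁻¹ᵁ ψ ⁻¹ᵁ T := by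
    rw [← Scheme.Hom.comp_preimage, ← Scheme.Hom.comp_preimage (f := f), h₁]
  have h' : ξ ⁻¹ᵁ φ ⁻¹ᵁ ψ ⁻¹ᵁ T = f ⁻¹ᵁ g ⁻¹ᵁ ζ ⁻¹ᵁ T := by rw [h, e]
  have key := aux f ((pullbackPushforwardAdjunction f).unit.app ((pullback g).obj L))
    ((pullbackComp f g).hom.app L) e h h'
  refine (Category.assoc _ _ _).trans ?_
  congr 1

end Groth.Agent.Helper7.BCHoriz

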